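import Mathlib

/-!
# The sequence `0 → V → S²V → Λ²V → 0` in characteristic two
-/

set_option autoImplicit false

open scoped TensorProduct
open Module

namespace Groth.Agent.Char2Sq

universe u v w

variable {V : Type v} [AddCommGroup V] [Module (ZMod 2) V] {ι : Type w}

/-- The span of the tensors `v ⊗ v`. -/
abbrev spanSq (V : Type v) [AddCommGroup V] [Module (ZMod 2) V] :
    Submodule (ZMod 2) (V ⊗[ZMod 2] V) :=
  Submodule.span (ZMod 2) (Set.range fun v : V => v ⊗ₜ[ZMod 2] v)

/-- The span of the tensors `x ⊗ y + y ⊗ x`. -/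
abbrev spanSym (V : Type v) [AddCommGroup V] [Module (ZMod 2) V] :
    Submodule (ZMod 2) (V ⊗[ZMod 2] V) :=
  Submodule.span (ZMod 2) (Set.range fun p : V × V => p.1 ⊗ₜ[ZMod 2] p.2 + p.2 ⊗ₜ[ZMod 2] p.1)

lemma neg_eq {M : Type*} [AddCommGroup M] [Module (ZMod 2) M] (x : M) : -x = x := by
  rw [← neg_one_smul (ZMod 2) x, show (-1 : ZMod 2) = 1 by decide, one_smul]

lemma add_self {M : Type*} [AddCommGroup M] [Module (ZMod 2) M] (x : M) : x + x = 0 := by
  conv_lhs => arg 2; rw [← neg_eq x]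
  exact add_neg_cancel x

lemma spanSym_le_spanSq : spanSym V ≤ spanSq V := by
  refine Submodule.span_le.2 ?_
  rintro _ ⟨⟨x, y⟩, rfl⟩
  have h : x ⊗ₜ[ZMod 2] y + y ⊗ₜ[ZMod 2] x =
      (x + y) ⊗ₜ (x + y) - x ⊗ₜ x - y ⊗ₜ y := by
    simp only [TensorProduct.add_tmul, TensorProduct.tmul_add]; abel
  show x ⊗ₜ[ZMod 2] y + y ⊗ₜ[ZMod 2] x ∈ spanSq V
  rw [h]
  exact sub_mem (sub_mem (Submodule.subset_span ⟨_, rfl⟩) (Submodule.subset_span ⟨_, rfl⟩))
    (Submodule.subset_span ⟨_, rfl⟩)

lemma spanSq_stable (f : V →ₗ[ZMod 2] V) {t : V ⊗[ZMod 2] V} (ht : t ∈ spanSq V) :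
    TensorProduct.map f f t ∈ spanSq V := by
  refine (Submodule.span_le (p := (spanSq V).comap (TensorProduct.map f f))).2 ?_ ht
  rintro _ ⟨x, rfl⟩
  exact Submodule.subset_span ⟨f x, (TensorProduct.map_tmul f f x x).symm⟩

lemma spanSym_stable (f : V →ₗ[ZMod 2] V) {t : V ⊗[ZMod 2] V} (ht : t ∈ spanSym V) :
    TensorProduct.map f f t ∈ spanSym V := by
  refine (Submodule.span_le (p := (spanSym V).comap (TensorProduct.map f f))).2 ?_ ht
  rintro _ ⟨⟨x, y⟩, rfl⟩
  exact Submodule.subset_span ⟨(f x, f y), by simp⟩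

variable (b : Basis ι (ZMod 2) V)

/-- The coordinates of a tensor. -/
noncomputable def coord (t : V ⊗[ZMod 2] V) (i j : ι) : ZMod 2 := (b.tensorProduct b).repr t (i, j)

lemma coord_tmul (x y : V) (i j : ι) : coord b (x ⊗ₜ y) i j = b.repr x i * b.repr y j := by
  rw [coord, Basis.tensorProduct_repr_tmul_apply, smul_eq_mul, mul_comm]

lemma coord_add (s t : V ⊗[ZMod 2] V) (i j : ι) :
    coord b (s + t) i j = coord b s i j + coord b t i j := by
  simp [coord]

lemma coord_sub (s t : V ⊗[ZMod 2] V) (i j : ι) :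
    coord b (s - t) i j = coord b s i j - coord b t i j := by
  simp [coord]

lemma coord_comm (t : V ⊗[ZMod 2] V) (i j : ι) :
    coord b (TensorProduct.comm (ZMod 2) V V t) i j = coord b t j i := by
  induction t using TensorProduct.induction_on with
  | zero => simp [coord]
  | tmul x y => rw [TensorProduct.comm_tmul, coord_tmul, coord_tmul, mul_comm]
  | add x y hx hy => rw [map_add, coord_add, coord_add, hx, hy]

lemma coord_symm_of_mem_spanSq {t : V ⊗[ZMod 2] V} (ht : t ∈ spanSq V) (i j : ι) :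
    coord b t i j = coord b t j i := by
  have h : TensorProduct.comm (ZMod 2) V V t = t := by
    induction ht using Submodule.span_induction with
    | mem x hx => obtain ⟨v, rfl⟩ := hx; exact TensorProduct.comm_tmul _ _ _ v v
    | zero => exact map_zero _
    | add x y _ _ hx hy => rw [map_add, hx, hy]
    | smul a x _ hx => rw [map_smul, hx]
  conv_lhs => rw [← h]
  exact coord_comm b t i j

/-- The span of the off-diagonal basis tensors. -/
def offDiag : Submodule (ZMod 2) (V ⊗[ZMod 2] V) :=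
  Submodule.span (ZMod 2) ((b.tensorProduct b) '' {p : ι × ι | p.1 ≠ p.2})

lemma mem_offDiag {t : V ⊗[ZMod 2] V} : t ∈ offDiag b ↔ ∀ i, coord b t i i = 0 := by
  rw [offDiag, Basis.mem_span_image]
  constructor
  · intro h i
    by_contra hne
    exact h (Finsupp.mem_support_iff.2 hne) rfl
  · rintro h ⟨i, j⟩ hp hij
    exact Finsupp.mem_support_iff.1 hp ((show i = j from hij) ▸ h i)

lemma spanSym_le_offDiag : spanSym V ≤ offDiag b := by
  refine Submodule.span_le.2 ?_
  rintro _ ⟨⟨x, y⟩, rfl⟩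
  refine (mem_offDiag b).2 fun i => ?_
  rw [coord_add, coord_tmul, coord_tmul, mul_comm, add_self]

lemma mem_spanSym_of_coord {t : V ⊗[ZMod 2] V} (hd : ∀ i, coord b t i i = 0)
    (hs : ∀ i j, coord b t i j = coord b t j i) : t ∈ spanSym V := by
  classical
  let _ : LinearOrder ι := IsWellOrder.linearOrder WellOrderingRel
  let u : V ⊗[ZMod 2] V :=
    (b.tensorProduct b).repr.symm (((b.tensorProduct b).repr t).filter fun p => p.1 < p.2)
  have hmem : u + TensorProduct.comm (ZMod 2) V V u ∈ spanSym V := by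
    induction u using TensorProduct.induction_on with
    | zero => simp
    | tmul x y => exact Submodule.subset_span ⟨(x, y), rfl⟩
    | add x y hx hy =>
      rw [map_add, add_add_add_comm]
      exact add_mem hx hy
  suffices t = u + TensorProduct.comm (ZMod 2) V V u from this ▸ hmem
  apply (b.tensorProduct b).repr.injective
  ext ⟨i, j⟩
  show coord b t i j = coord b (u + _) i j
  have hu : ∀ i j, coord b u i j = if i < j then coord b t i j else 0 := fun i j => by
    simp only [u, coord, LinearEquiv.apply_symm_apply, Finsupp.filter_apply]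
  rw [coord_add, coord_comm, hu, hu]
  rcases lt_trichotomy i j with h | rfl | h
  · rw [if_pos h, if_neg h.not_gt, add_zero]
  · simp [hd]
  · rw [if_pos h, if_neg h.not_gt, zero_add, hs]

lemma offDiag_sup_spanSq : offDiag b ⊔ spanSq V = ⊤ := by
  rw [eq_top_iff, ← (b.tensorProduct b).span_eq, Submodule.span_le]
  rintro _ ⟨⟨i, j⟩, rfl⟩
  rcases eq_or_ne i j with rfl | h
  · refine Submodule.mem_sup_right (Submodule.subset_span ⟨b i, ?_⟩)
    rw [Basis.tensorProduct_apply]
  · exact Submodule.mem_sup_left (Submodule.subset_span ⟨(i, j), h, rfl⟩)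

lemma offDiag_inf_spanSq : offDiag b ⊓ spanSq V = spanSym V :=
  le_antisymm (fun _ h => mem_spanSym_of_coord b ((mem_offDiag b).1 h.1)
    (coord_symm_of_mem_spanSq b h.2)) (le_inf (spanSym_le_offDiag b) spanSym_le_spanSq)

lemma mem_spanSq_of_symm {t : V ⊗[ZMod 2] V}
    (hs : ∀ i j, coord b t i j = coord b t j i) : t ∈ spanSq V := by
  obtain ⟨x, hx, y, hy, rfl⟩ := Submodule.mem_sup.1
    ((offDiag_sup_spanSq b).ge (Submodule.mem_top : t ∈ ⊤))
  refine add_mem (spanSym_le_spanSq (mem_spanSym_of_coord b ((mem_offDiag b).1 hx) fun i j => ?_)) hy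
  have h := hs i j
  rw [coord_add, coord_add, coord_symm_of_mem_spanSq b hy i j] at h
  exact add_right_cancel h

theorem splits_of_perm {G : Type u} [Group G] (ρ : Representation (ZMod 2) G V)
    (hb : ∀ g : G, ∀ i : ι, ∃ j : ι, ρ g (b i) = b j) :
    ∃ W : Submodule (ZMod 2) (V ⊗[ZMod 2] V), (∀ g : G, ∀ w ∈ W, ρ.tprod ρ g w ∈ W) ∧
      W ⊓ spanSq V = spanSym V ∧ W ⊔ spanSq V = ⊤ := by
  refine ⟨offDiag b, fun g w hw => ?_, offDiag_inf_spanSq b, offDiag_sup_spanSq b⟩
  refine (Submodule.span_le (p := (offDiag b).comap (ρ.tprod ρ g))).2 ?_ hw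
  rintro _ ⟨⟨i, j⟩, hij, rfl⟩
  obtain ⟨i', hi⟩ := hb g i
  obtain ⟨j', hj⟩ := hb g j
  refine Submodule.subset_span ⟨(i', j'), fun h : i' = j' => hij (b.injective ?_), ?_⟩
  · have hinj : Function.Injective (ρ g) := (Representation.apply_bijective ρ g).1
    exact hinj (by rw [hi, hj, h])
  · rw [Basis.tensorProduct_apply, Basis.tensorProduct_apply]
    show _ = TensorProduct.map (ρ g) (ρ g) (b i ⊗ₜ[ZMod 2] b j)
    rw [TensorProduct.map_tmul, hi, hj]

end Groth.Agent.Char2Sq
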