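import Groth.Agent.Char2Sq.Basic

/-!
# Splittings for groups of order two, and in dimensions two and three
-/

set_option autoImplicit false

open scoped TensorProduct
open Module

namespace Groth.Agent.Char2Sq

universe u v w

variable {V : Type v} [AddCommGroup V] [Module (ZMod 2) V]

theorem exists_perm_basis_of_invol (s : V →ₗ[ZMod 2] V) (hs : ∀ x, s (s x) = x) :
    ∃ (ι : Type v) (b : Basis ι (ZMod 2) V), ∀ i, ∃ j, s (b i) = b j := by
  let τ : V →ₗ[ZMod 2] V := s + LinearMap.id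
  have hτ : ∀ x, τ x = s x + x := fun _ => rfl
  have hττ : ∀ x, τ x ∈ LinearMap.ker τ := fun x => by
    rw [LinearMap.mem_ker, hτ, hτ, map_add, hs, add_comm x (s x)]
    exact add_self _
  obtain ⟨C, hC⟩ := Submodule.exists_isCompl (LinearMap.ker τ)
  obtain ⟨F', hF⟩ := Submodule.exists_isCompl ((C.map τ).comap (LinearMap.ker τ).subtype)
  let F : Submodule (ZMod 2) V := F'.map (LinearMap.ker τ).subtype
  have hFker : ∀ f ∈ F, τ f = 0 := by
    rintro _ ⟨x, -, rfl⟩; exact x.2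
  let e : (C × C) × F →ₗ[ZMod 2] V :=
    (C.subtype.coprod (s.comp C.subtype)).coprod F.subtype
  have he : ∀ x y : C, ∀ f : F, e ((x, y), f) = x.1 + s y.1 + f.1 := fun _ _ _ => rfl
  have hinj : Function.Injective e := by
    rw [injective_iff_map_eq_zero]
    rintro ⟨⟨x, y⟩, f⟩ h
    rw [he] at h
    have hsy : s y.1 = τ y.1 + y.1 := by
      rw [hτ, add_assoc, add_self, add_zero]
    have h' : (x.1 + y.1) + (τ y.1 + f.1) = 0 := by rw [← h, hsy]; abel
    have hk : τ y.1 + f.1 ∈ LinearMap.ker τ :=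
      add_mem (hττ _) (LinearMap.mem_ker.2 (hFker _ f.2))
    have hxy : x.1 + y.1 = 0 := by
      have hm : x.1 + y.1 ∈ LinearMap.ker τ := by
        rw [eq_neg_of_add_eq_zero_left h']; exact neg_mem hk
      have hbot := hC.disjoint.le_bot (Submodule.mem_inf.2 ⟨hm, add_mem x.2 y.2⟩)
      exact (Submodule.mem_bot _).1 hbot
    rw [hxy, zero_add] at h'
    obtain ⟨f', hf', hff⟩ := f.2
    have hf0 : f.1 = 0 := by
      have hm : f' ∈ (C.map τ).comap (LinearMap.ker τ).subtype := by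
        show f'.1 ∈ C.map τ
        rw [show f'.1 = f.1 from hff, eq_neg_of_add_eq_zero_right h', neg_eq]
        exact ⟨y.1, y.2, rfl⟩
      have hbot := (Submodule.mem_bot _).1 (hF.disjoint.le_bot (Submodule.mem_inf.2 ⟨hm, hf'⟩))
      rw [← hff, hbot]; rfl
    rw [hf0, add_zero] at h'
    have hy : y.1 = 0 := (Submodule.mem_bot _).1
      (hC.disjoint.le_bot (Submodule.mem_inf.2 ⟨LinearMap.mem_ker.2 h', y.2⟩))
    rw [hy, add_zero] at hxy
    simp [Subtype.ext_iff, hxy, hy, hf0]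
  have hsurj : Function.Surjective e := by
    intro v
    obtain ⟨k, hk, c, hc, rfl⟩ := Submodule.mem_sup.1 (hC.sup_eq_top.ge (Submodule.mem_top : v ∈ ⊤))
    obtain ⟨a, ha, f', hf', hka⟩ :=
      Submodule.mem_sup.1 (hF.sup_eq_top.ge (Submodule.mem_top : (⟨k, hk⟩ : LinearMap.ker τ) ∈ ⊤))
    obtain ⟨y, hy, hya⟩ := (show a.1 ∈ C.map τ from ha)
    refine ⟨((⟨c + y, add_mem hc hy⟩, ⟨y, hy⟩), ⟨f'.1, ⟨f', hf', rfl⟩⟩), ?_⟩
    have hk' : a.1 + f'.1 = k := congrArg Subtype.val hka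
    rw [he, ← hk', ← hya, hτ]
    show c + y + s y + f'.1 = s y + y + f'.1 + c
    abel
  let E := LinearEquiv.ofBijective e ⟨hinj, hsurj⟩
  let bC := Basis.ofVectorSpace (ZMod 2) C
  let bF := Basis.ofVectorSpace (ZMod 2) F
  refine ⟨_, ((bC.prod bC).prod bF).map E, ?_⟩
  rintro ((i | i) | i)
  · refine ⟨Sum.inl (Sum.inr i), ?_⟩
    simp [E, e]
  · refine ⟨Sum.inl (Sum.inl i), ?_⟩
    simp [E, e, hs]
  · refine ⟨Sum.inr i, ?_⟩
    have h := hFker _ (bF i).2
    rw [hτ] at h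
    simp [E, e]
    rw [eq_neg_of_add_eq_zero_left h, neg_eq]

theorem splits_of_card_two {G : Type u} [Group G] (hG : Nat.card G = 2)
    (ρ : Representation (ZMod 2) G V) :
    ∃ W : Submodule (ZMod 2) (V ⊗[ZMod 2] V), (∀ g : G, ∀ w ∈ W, ρ.tprod ρ g w ∈ W) ∧
      W ⊓ spanSq V = spanSym V ∧ W ⊔ spanSq V = ⊤ := by
  obtain ⟨σ, hσ, hσu⟩ := (Nat.card_eq_two_iff' (1 : G)).1 hG
  have hσ2 : σ * σ = 1 := by
    by_contra h
    exact hσ (mul_eq_left.1 (hσu _ h))
  obtain ⟨ι, b, hb⟩ := exists_perm_basis_of_invol (ρ σ) (fun x => by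
    rw [← Module.End.mul_apply, ← map_mul, hσ2, map_one, Module.End.one_apply])
  refine splits_of_perm b ρ fun g i => ?_
  rcases eq_or_ne g 1 with rfl | hg
  · exact ⟨i, by rw [map_one, Module.End.one_apply]⟩
  · rw [hσu g hg]; exact hb i

/-- The tensor `a ⊗ a + a ⊗ b + b ⊗ b`. -/
abbrev quad (a b : V) : V ⊗[ZMod 2] V := a ⊗ₜ a + a ⊗ₜ b + b ⊗ₜ b

lemma tprod_quad {G : Type u} [Group G] (ρ : Representation (ZMod 2) G V) (g : G) (a b : V) :
    ρ.tprod ρ g (quad a b) = quad (ρ g a) (ρ g b) := by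
  show TensorProduct.map (ρ g) (ρ g) (quad a b) = _
  simp only [quad, map_add, TensorProduct.map_tmul]

theorem splits_of_finrank_two {G : Type u} [Group G]
    (hV : Module.finrank (ZMod 2) V = 2) (ρ : Representation (ZMod 2) G V) :
    ∃ W : Submodule (ZMod 2) (V ⊗[ZMod 2] V), (∀ g : G, ∀ w ∈ W, ρ.tprod ρ g w ∈ W) ∧
      W ⊓ spanSq V = spanSym V ∧ W ⊔ spanSq V = ⊤ := by
  have := Module.finite_of_finrank_eq_succ hV
  let b := Module.finBasisOfFinrankEq (ZMod 2) V hV
  let w := quad (b 0) (b 1)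
  have hw : w ∉ spanSq V := fun h => by
    have h := coord_symm_of_mem_spanSq b h 0 1
    simp [w, quad, coord_add, coord_tmul] at h
  refine ⟨spanSym V ⊔ Submodule.span (ZMod 2) {w}, fun g t ht => ?_, ?_, ?_⟩
  · obtain ⟨x, hx, y, hy, rfl⟩ := Submodule.mem_sup.1 ht
    obtain ⟨c, rfl⟩ := Submodule.mem_span_singleton.1 hy
    have key : ρ.tprod ρ g w - w ∈ spanSym V := by
      have hinj : Function.Injective (ρ g) := (Representation.apply_bijective ρ g).1
      have e : ∀ x y : V, b.repr x 0 = b.repr y 0 → b.repr x 1 = b.repr y 1 → x = y :=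
        fun x y h0 h1 => b.repr.injective (Finsupp.ext fun i => by
          fin_cases i
          · exact h0
          · exact h1)
      have n0 : ¬ (b.repr (ρ g (b 0)) 0 = 0 ∧ b.repr (ρ g (b 0)) 1 = 0) := fun h =>
        b.ne_zero 0 (hinj ((e _ 0 (by simp [h.1]) (by simp [h.2])).trans (map_zero _).symm))
      have n1 : ¬ (b.repr (ρ g (b 1)) 0 = 0 ∧ b.repr (ρ g (b 1)) 1 = 0) := fun h =>
        b.ne_zero 1 (hinj ((e _ 0 (by simp [h.1]) (by simp [h.2])).trans (map_zero _).symm))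
      have n01 : ¬ (b.repr (ρ g (b 0)) 0 = b.repr (ρ g (b 1)) 0 ∧
          b.repr (ρ g (b 0)) 1 = b.repr (ρ g (b 1)) 1) := fun h =>
        absurd (b.injective (hinj (e _ _ h.1 h.2))) (by decide)
      have hc : ∀ i j, coord b (ρ.tprod ρ g w - w) i j =
          b.repr (ρ g (b 0)) i * b.repr (ρ g (b 0)) j + b.repr (ρ g (b 0)) i * b.repr (ρ g (b 1)) j
            + b.repr (ρ g (b 1)) i * b.repr (ρ g (b 1)) j
          - ((if 0 = i then 1 else 0) * (if 0 = j then 1 else 0)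
            + (if 0 = i then 1 else 0) * (if 1 = j then 1 else 0)
            + (if 1 = i then 1 else 0) * (if 1 = j then 1 else 0)) := fun i j => by
        simp only [w, tprod_quad, quad, coord_sub, coord_add, coord_tmul, Basis.repr_self,
          Finsupp.single_apply]
      refine mem_spanSym_of_coord b (fun i => ?_) fun i j => ?_
      · rw [hc]
        generalize b.repr (ρ g (b 0)) = p, b.repr (ρ g (b 1)) = q at n0 n1 n01 ⊢
        revert n0 n1 n01
        fin_cases i <;> simp <;> generalize p 0 = a₀, p 1 = a₁, q 0 = b₀, q 1 = b₁ <;>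
          revert a₀ a₁ b₀ b₁ <;> decide
      · rw [hc, hc]
        generalize b.repr (ρ g (b 0)) = p, b.repr (ρ g (b 1)) = q at n0 n1 n01 ⊢
        revert n0 n1 n01
        fin_cases i <;> fin_cases j <;> simp <;>
          generalize p 0 = a₀, p 1 = a₁, q 0 = b₀, q 1 = b₁ <;>
          revert a₀ a₁ b₀ b₁ <;> decide
    have h : ρ.tprod ρ g (x + c • w) =
        (ρ.tprod ρ g x + c • (ρ.tprod ρ g w - w)) + c • w := by
      rw [map_add, map_smul, smul_sub]; abel
    rw [h]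
    exact Submodule.add_mem_sup (add_mem (spanSym_stable (ρ g) hx) (Submodule.smul_mem _ _ key))
      (Submodule.smul_mem _ _ (Submodule.mem_span_singleton_self w))
  · refine le_antisymm (fun t ht => ?_) (le_inf le_sup_left spanSym_le_spanSq)
    obtain ⟨x, hx, y, hy, rfl⟩ := Submodule.mem_sup.1 ht.1
    obtain ⟨c, rfl⟩ := Submodule.mem_span_singleton.1 hy
    rcases eq_or_ne c 0 with rfl | hc
    · rwa [zero_smul, add_zero]
    · exfalso
      refine hw ?_
      have := Submodule.sub_mem _ ht.2 (spanSym_le_spanSq hx)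
      rwa [add_sub_cancel_left, Submodule.smul_mem_iff _ hc] at this
  · rw [eq_top_iff, ← (b.tensorProduct b).span_eq, Submodule.span_le]
    rintro _ ⟨⟨i, j⟩, rfl⟩
    rw [Basis.tensorProduct_apply]
    have hsq : ∀ x : V, x ⊗ₜ[ZMod 2] x ∈ (spanSym V ⊔ Submodule.span (ZMod 2) {w}) ⊔ spanSq V :=
      fun x => Submodule.mem_sup_right (Submodule.subset_span ⟨x, rfl⟩)
    have hw' : w ∈ (spanSym V ⊔ Submodule.span (ZMod 2) {w}) ⊔ spanSq V :=
      Submodule.mem_sup_left (Submodule.mem_sup_right (Submodule.mem_span_singleton_self w))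
    have h01 : b 0 ⊗ₜ[ZMod 2] b 1 ∈ (spanSym V ⊔ Submodule.span (ZMod 2) {w}) ⊔ spanSq V := by
      have := sub_mem (sub_mem hw' (hsq (b 0))) (hsq (b 1))
      convert this using 1
      simp only [w, quad]; abel
    have h10 : b 1 ⊗ₜ[ZMod 2] b 0 ∈ (spanSym V ⊔ Submodule.span (ZMod 2) {w}) ⊔ spanSq V := by
      have hs : b 0 ⊗ₜ[ZMod 2] b 1 + b 1 ⊗ₜ[ZMod 2] b 0 ∈
          (spanSym V ⊔ Submodule.span (ZMod 2) {w}) ⊔ spanSq V :=
        Submodule.mem_sup_left (Submodule.mem_sup_left (Submodule.subset_span ⟨(b 0, b 1), rfl⟩))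
      simpa using sub_mem hs h01
    fin_cases i <;> fin_cases j
    exacts [hsq _, h01, h10, hsq _]

theorem invariant_lift_of_finrank_three {G : Type u} [Group G]
    (hV : Module.finrank (ZMod 2) V = 3) (ρ : Representation (ZMod 2) G V)
    (t : V ⊗[ZMod 2] V) (ht : ∀ g : G, ρ.tprod ρ g t - t ∈ spanSq V) :
    ∃ t' : V ⊗[ZMod 2] V, t' - t ∈ spanSq V ∧ ∀ g : G, ρ.tprod ρ g t' - t' ∈ spanSym V := by
  have := Module.finite_of_finrank_eq_succ hV
  let e := Module.finBasisOfFinrankEq (ZMod 2) V hV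
  let cr : (V ⊗[ZMod 2] V) → Fin 3 → Fin 3 → ZMod 2 := fun t i j => coord e t i j + coord e t j i
  have hcr : ∀ x y : V ⊗[ZMod 2] V, x - y ∈ spanSq V ↔ ∀ i j, cr x i j = cr y i j := by
    intro x y
    have hiff : ∀ p q r s : ZMod 2, p - q = r - s ↔ p + r = q + s := by decide
    constructor
    · intro h i j
      have := coord_symm_of_mem_spanSq e h i j
      rw [coord_sub, coord_sub] at this
      exact (hiff _ _ _ _).1 this
    · intro h
      refine mem_spanSq_of_symm e fun i j => ?_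
      rw [coord_sub, coord_sub]
      exact (hiff _ _ _ _).2 (h i j)
  -- every class is decomposable
  obtain ⟨a, b, hab, hab0⟩ : ∃ a b : V, t - a ⊗ₜ[ZMod 2] b ∈ spanSq V ∧
      ((∀ i j, cr t i j = 0) → a = 0 ∧ b = 0) := by
    have hex : ∀ x y z : ZMod 2, ∃ p q : Fin 3 → ZMod 2,
        (p 0 * q 1 + p 1 * q 0 = x ∧ p 1 * q 2 + p 2 * q 1 = y ∧ p 0 * q 2 + p 2 * q 0 = z) ∧
        (x = 0 ∧ y = 0 ∧ z = 0 → (∀ i, p i = 0) ∧ ∀ i, q i = 0) := by decide
    obtain ⟨p, q, ⟨h01, h12, h02⟩, h0⟩ := hex (cr t 0 1) (cr t 1 2) (cr t 0 2)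
    have hp : ∀ (p : Fin 3 → ZMod 2) i, e.repr (e.equivFun.symm p) i = p i := fun p i =>
      congrFun (e.equivFun.apply_symm_apply p) i
    refine ⟨e.equivFun.symm p, e.equivFun.symm q, (hcr _ _).2 fun i j => ?_, fun h => ?_⟩
    · show _ = coord e _ i j + coord e _ j i
      simp only [coord_tmul, hp]
      have h2 : ∀ p : ZMod 2, p + p = 0 := by decide
      fin_cases i <;> fin_cases j <;>
        first
        | (exact (h2 _).trans (h2 _).symm)
        | (exact h01.symm)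
        | (exact h12.symm)
        | (exact h02.symm)
        | (exact (add_comm _ _).trans (h01.symm.trans (add_comm _ _)))
        | (exact (add_comm _ _).trans (h12.symm.trans (add_comm _ _)))
        | (exact (add_comm _ _).trans (h02.symm.trans (add_comm _ _)))
    · obtain ⟨hp0, hq0⟩ := h0 ⟨h _ _, h _ _, h _ _⟩
      exact ⟨by rw [show p = 0 from funext hp0, map_zero],
        by rw [show q = 0 from funext hq0, map_zero]⟩
  have hqd : ∀ x y : V, quad x y - x ⊗ₜ[ZMod 2] y ∈ spanSq V := fun x y => by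
    rw [show quad x y - x ⊗ₜ[ZMod 2] y = x ⊗ₜ x + y ⊗ₜ y by simp only [quad]; abel]
    exact add_mem (Submodule.subset_span ⟨x, rfl⟩) (Submodule.subset_span ⟨y, rfl⟩)
  refine ⟨quad a b, by simpa using sub_mem (hqd a b) hab, fun g => ?_⟩
  -- the image of the decomposition
  have hg : ρ g a ⊗ₜ[ZMod 2] ρ g b - a ⊗ₜ[ZMod 2] b ∈ spanSq V := by
    have h1 : ρ g a ⊗ₜ[ZMod 2] ρ g b - a ⊗ₜ[ZMod 2] b =
        -ρ.tprod ρ g (t - a ⊗ₜ[ZMod 2] b) + (ρ.tprod ρ g t - t) + (t - a ⊗ₜ[ZMod 2] b) := by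
      rw [map_sub, show ρ.tprod ρ g (a ⊗ₜ[ZMod 2] b) = ρ g a ⊗ₜ[ZMod 2] ρ g b from
        TensorProduct.map_tmul _ _ _ _]
      abel
    rw [h1]
    exact add_mem (add_mem (neg_mem (spanSq_stable (ρ g) hab)) (ht g)) hab
  rw [tprod_quad]
  have hsq : quad (ρ g a) (ρ g b) - quad a b ∈ spanSq V := by
    have := add_mem (sub_mem (hqd (ρ g a) (ρ g b)) (hqd a b)) hg
    convert this using 1
    abel
  refine mem_spanSym_of_coord e (fun i => ?_) (coord_symm_of_mem_spanSq e hsq)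
  rcases Classical.em (∀ i j, cr t i j = 0) with h0 | h0
  · obtain ⟨rfl, rfl⟩ := hab0 h0
    simp [quad, coord]
  · have key : ∀ a₀ a₁ a₂ b₀ b₁ b₂ : ZMod 2,
        a₀ * b₁ + a₁ * b₀ ≠ 0 ∨ a₁ * b₂ + a₂ * b₁ ≠ 0 ∨ a₀ * b₂ + a₂ * b₀ ≠ 0 →
        a₀ * a₀ + a₀ * b₀ + b₀ * b₀ = (a₀ * b₁ + a₁ * b₀) + (a₀ * b₂ + a₂ * b₀)
          + (a₀ * b₁ + a₁ * b₀) * (a₀ * b₂ + a₂ * b₀) := by decide
    have hs := (hcr _ _).1 hg
    have hn := (hcr _ _).1 hab
    have hne : ∀ x y : V, (∀ i j, cr t i j = cr (x ⊗ₜ[ZMod 2] y) i j) → ∀ i : Fin 3,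
        coord e (quad x y) i i = cr t i (i + 1) + cr t i (i + 2) + cr t i (i + 1) * cr t i (i + 2) := by
      intro x y hxy i
      simp only [quad, coord_add, hxy, cr, coord_tmul]
      have hcn : ¬ ∀ i j, e.repr x i * e.repr y j + e.repr x j * e.repr y i = 0 := fun h =>
        h0 fun i j => by rw [hxy]; simp only [cr, coord_tmul]; exact h i j
      refine key _ _ _ _ _ _ ?_
      by_contra hcon
      simp only [not_or, not_ne_iff] at hcon
      obtain ⟨c1, c2, c3⟩ := hcon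
      have h2 : ∀ p : ZMod 2, p + p = 0 := by decide
      refine hcn fun k l => ?_
      fin_cases i <;> fin_cases k <;> fin_cases l <;>
        first
        | exact h2 _
        | exact c1
        | exact c2
        | exact c3
        | exact (add_comm _ _).trans c1
        | exact (add_comm _ _).trans c2
        | exact (add_comm _ _).trans c3
    rw [coord_sub, hne a b hn i, hne _ _ (fun i j => (hn i j).trans (hs i j).symm) i, sub_self]

end Groth.Agent.Char2Sq
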